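/-
Words for the 7-part of the Schur multiplier of the O'Nan group: two generators of a Sylow 7-subgroup and an
involution inverting both.
Main definitions: `sevA`, `sevB`, `sevT`, `sevImages`.
-/
import Mathlib.Data.List.Basic

set_option autoImplicit false

namespace Cfsg.Agent.MultiplierON

/-- The first generator. -/
def sevA : List ℕ := [3, 2, 4, 5, 4, 3, 6, 5, 4, 3, 5, 4, 3, 5, 6, 5, 4, 3, 5, 4, 6, 5, 4, 3]

/-- The second generator. -/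
def sevB : List ℕ := [3, 2, 4, 5, 4, 3, 7, 6, 5, 4, 3, 5, 4, 3, 5, 6, 5, 4, 3, 5, 4, 6, 5, 4, 3, 7]

/-- The inverting involution. -/
def sevT : List ℕ := [2, 3, 2, 6, 5, 4, 5, 4, 3, 6, 5, 4, 3, 5, 4, 3, 5, 6, 5, 4, 3, 5, 4, 6, 5, 4, 3, 2, 5, 6, 6, 7, 3, 4, 5, 6, 4, 5, 3, 4, 5, 6, 5, 3, 4, 5, 3, 4, 5, 6, 7, 3, 4, 5, 6, 4, 2, 3, 2, 3, 2, 6, 5, 4, 5, 4, 3, 6, 5, 4, 3, 5, 4, 3, 5, 6, 5, 4, 3, 5, 4, 6, 5, 4, 3, 2, 5, 6, 2, 3, 2, 6, 5, 4, 5, 4, 3, 6, 5, 4, 3, 5, 4, 3, 5, 6, 5, 4, 3, 5, 4, 6, 5, 4, 3, 2, 5, 6, 6, 7, 3, 4, 5, 6, 4, 5, 3, 4, 5, 6, 5, 3, 4, 5, 3, 4, 5, 6, 7, 3, 4, 5, 6, 4, 2, 3, 2, 3, 2, 6, 5, 4, 5, 4, 3, 6, 5, 4, 3, 5, 4, 3, 5, 6, 5, 4, 3, 5, 4, 6, 5, 4, 3, 2, 5, 6]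

/-- The images of the point 1 under fifty words in the generators. -/
def sevImages : List ℕ := [1, 74978, 7799, 106613, 60916, 113385, 71359, 56056, 81739, 61165, 45852, 112579, 1202, 46639, 7589, 80539, 3538, 120423, 42735, 33783, 68546, 120082, 32663, 61378, 85842, 87605, 72943, 110644, 92164, 89005, 108741, 115199, 98228, 122052, 24232, 88734, 99227, 13937, 120963, 19845, 85312, 94031, 39398, 22483, 72659, 70381, 68794, 89125, 35605, 14503]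

end Cfsg.Agent.MultiplierON
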