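/-
Kernel checks for the Schur multiplier of the O'Nan group on the coset table of degree 122760.
Main definitions and results: `pw`, `rules_ok`, `fus_ok`, `wit_ok`, `seven_ok`.
-/
import Cfsg.Agent.Lib.MultiplierON.Data
import Cfsg.Agent.Lib.MultiplierON.SevenData
import Cfsg.Agent.Lib.ONReal.Faith
import Cfsg.Agent.Lib.CpQuotient.ONThree

set_option autoImplicit false
set_option maxRecDepth 20000
set_option Elab.async false

namespace Cfsg.Agent.MultiplierON

open Cfsg.Agent.CosetEnum Cfsg.Agent.Multiplier
open Cfsg.Agent.CpQuotient.ON (wi rep')

/-- The word of a product of generators. -/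
def pw : List ℕ → List ℕ
  | [] => []
  | i :: l => pw l ++ pcWord.getD i []

/-- A word fixing the base. -/
noncomputable def triv (w : List ℕ) : Bool := ONReal.baseFixed on122760 on122760_chain w

/-- The rules hold. -/
noncomputable def rulesOK : Bool :=
  (List.range cert.n).all fun a => (List.range (a + 1)).all fun b =>
    triv (pw (PrimeTails.lhs cert.p a b) ++ wi (pw (PrimeTails.rhs cert.rules a b)))

/-- A fusion relation holds. -/
noncomputable def fusOne : PrimeTails.Rel → List ℕ → Bool
  | .cons _ _ _, _ => true
  | .fus Xs Ys _ _, x => (List.range Xs.length).all fun j =>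
      triv ((pw (Xs.getD j []) ++ x) ++ wi (x ++ pw (Ys.getD j [])))

/-- The fusion relations hold. -/
noncomputable def fusOK : Bool :=
  Nat.beq fusWords.length rels.length &&
    (List.range rels.length).all fun i => fusOne (rels.getD i (.cons [] 0 0)) (fusWords.getD i [])

/-- The separating sets are stable and separate. -/
noncomputable def witOK : Bool :=
  (List.range cert.n).all fun b =>
    let s := (wit.getD b (0, [])).1
    let O := (wit.getD b (0, [])).2
    (O.contains s && O.all fun x => Nat.blt x on122760.n) &&
      (!O.contains (on122760.tw (pcWord.getD b []) s) &&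
        (List.range cert.n).all fun i => Nat.ble i b || O.all fun x => O.contains (on122760.tw (pcWord.getD i []) x))

/-- The commutator word of the two generators. -/
def sevC : List ℕ := sevA ++ (sevB ++ (wi sevA ++ wi sevB))

/-- Fifty words. -/
def sevWords : List (List ℕ) :=
  ((List.range 7).flatMap fun i => (List.range 7).map fun j => rep' i sevA ++ rep' j sevB) ++ [sevC]

/-- The relations of the Sylow 7-subgroup and its involution. -/
noncomputable def sevenOK : Bool :=
  triv (rep' 7 sevA) && (triv (rep' 7 sevB) && (triv (sevT ++ sevT) &&
    (triv (sevT ++ (sevA ++ (sevT ++ sevA))) && (triv (sevT ++ (sevB ++ (sevT ++ sevB))) &&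
      (triv (sevC ++ (sevA ++ (wi sevC ++ wi sevA))) && (triv (sevC ++ (sevB ++ (wi sevC ++ wi sevB))) &&
        (!Nat.beq (on122760.tw sevC 1) 1)))))))

theorem rules_ok : rulesOK = true := by decide +kernel
theorem fus_ok : fusOK = true := by decide +kernel
theorem wit_ok : witOK = true := by decide +kernel
theorem seven_ok : sevenOK = true := by decide +kernel
theorem seven_images : (sevWords.map fun w => on122760.tw w 1) = sevImages := by decide +kernel
theorem seven_nodup : sevImages.Nodup := by decide +kernel
theorem seven_lt : (sevWords.all fun w => w.all fun a => Nat.blt a 8) = true := by decide +kernel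
theorem pc_lt : (pcWord.all fun w => w.all fun a => Nat.blt a 8) = true := by decide +kernel
theorem fus_lt : (fusWords.all fun w => w.all fun a => Nat.blt a 8) = true := by decide +kernel

theorem shape_ok : cert.shapeOk = true := by decide +kernel
theorem piv_ok : cert.pivOk = true := by decide +kernel
theorem comb_ok : cert.combOk = true := by decide +kernel
theorem vec_ok : (cert.rels.map cert.relVec == cert.rv) = true := by decide +kernel
theorem rels_ok : cert.relsOk 0 cert.rels.length = true := by decide +kernel

end Cfsg.Agent.MultiplierON
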