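/-
The Schur multiplier of the O'Nan group has order at most 3.
Main results: `not_stem`, `ker_le_three`.
-/
import Cfsg.Agent.Lib.MultiplierON.Checks
import Cfsg.Agent.Lib.Multiplier.PrimeTails
import Cfsg.Agent.Lib.Multiplier.OddExtraspecial
import Cfsg.Prelude.Def_KGroupFacts

set_option autoImplicit false
set_option Elab.async false

open scoped commutatorElement

namespace Cfsg.Agent.MultiplierON

open Cfsg.Agent.CosetEnum Cfsg.Agent.CosetEnum.Data Cfsg.Agent.Multiplier
open Cfsg.Agent.CpQuotient.ON (elt wi rep' elt_wi elt_pow facts hom_elt k_eq)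

universe u

theorem card_G : Nat.card onSetup.G = 460815505920 := facts.choose_spec.1

instance : Finite onSetup.G := Nat.finite_of_card_ne_zero (by rw [card_G]; norm_num)

theorem elt_append (u v : List ℕ) : elt (u ++ v) = elt v * elt u := ev_append _ u v

theorem elt_eq_one {w : List ℕ} (h : triv w = true) : elt w = 1 := by
  obtain ⟨T, hcard, hinj⟩ := facts
  have hch := on122760_chain_check
  simp only [Bool.and_eq_true] at hch
  have hsz : Setup.chainSize on122760_chain = 460815505920 := beq_iff.mp hch.2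
  apply hinj
  have hw : ∀ a ∈ w, a < on122760.k := by
    simp only [triv, ONReal.baseFixed, Bool.and_eq_true, List.all_eq_true, Nat.blt_eq] at h
    exact h.1
  rw [hom_elt T w hw, map_one]
  refine ONReal.ev_eq_one_of_base T.gens T.letters T.perm T.rels on122760_chain hch.1 ?_ (by rw [hsz]; norm_num) h
  rw [hsz, ← hcard]
  exact Nat.card_le_card_of_surjective _
    (Setup.hom T.gens T.letters T.perm T.rels).rangeRestrict_surjective

theorem tw_congr {u v : List ℕ} (hu : ∀ a ∈ u, a < 8) (hv : ∀ a ∈ v, a < 8) (h : elt u = elt v) {s : ℕ}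
    (hs : s < on122760.n) : on122760.tw u s = on122760.tw v s := by
  obtain ⟨T, -, -⟩ := facts
  have h' := congrArg (fun g => (Setup.hom T.gens T.letters T.perm T.rels g ⟨s, hs⟩ : ℕ)) h
  rwa [hom_elt T _ (k_eq ▸ hu), hom_elt T _ (k_eq ▸ hv), Setup.ev_perm T.perm _ (k_eq ▸ hu),
    Setup.ev_perm T.perm _ (k_eq ▸ hv)] at h'

theorem lt_getD {ws : List (List ℕ)} (h : (ws.all fun w => w.all fun a => Nat.blt a 8) = true) (i : ℕ) :
    ∀ a ∈ ws.getD i [], a < 8 := by
  intro a ha
  simp only [List.all_eq_true, Nat.blt_eq] at h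
  rcases lt_or_ge i ws.length with hi | hi
  · rw [List.getD_eq_getElem _ _ hi] at ha; exact h _ (List.getElem_mem hi) a ha
  · rw [List.getD_eq_default _ _ hi] at ha; simp at ha

/-- The polycyclic generators. -/
noncomputable def gen (i : ℕ) : onSetup.G := elt (pcWord.getD i [])

theorem pw_lt : ∀ l, ∀ a ∈ pw l, a < 8
  | [], a, h => by simp [pw] at h
  | i :: l, a, h => by
    rcases List.mem_append.mp h with h | h
    · exact pw_lt l a h
    · exact lt_getD pc_lt i a h

theorem elt_pw : ∀ l, elt (pw l) = PcCover.wp gen l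
  | [] => rfl
  | i :: l => by rw [pw, elt_append, elt_pw l, PcCover.wp_cons]; rfl

theorem eq_of_triv {u v : List ℕ} (hv : ∀ a ∈ v, a < 8) (h : triv (u ++ wi v) = true) : elt u = elt v := by
  have := elt_eq_one h
  rwa [elt_append, elt_wi hv, inv_mul_eq_one, eq_comm] at this

theorem gen_rule (i j : ℕ) (hi : i < cert.n) (hj : j ≤ i) :
    PcCover.wp gen (PrimeTails.lhs cert.p i j) = PcCover.wp gen (PrimeTails.rhs cert.rules i j) := by
  have h := rules_ok
  simp only [rulesOK, List.all_eq_true, List.mem_range] at h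
  rw [← elt_pw, ← elt_pw]
  exact eq_of_triv (pw_lt _) (h i hi j (by omega))

theorem gen_fus : cert.FusHold gen := by
  intro Xs Ys l r hmem
  obtain ⟨i, hi, he⟩ := List.getElem_of_mem hmem
  have h := fus_ok
  simp only [fusOK, Bool.and_eq_true, List.all_eq_true, List.mem_range] at h
  have hi' : i < rels.length := hi
  have h' := h.2 i hi'
  rw [List.getD_eq_getElem _ _ hi', show rels[i] = PrimeTails.Rel.fus Xs Ys l r from he] at h'
  simp only [fusOne, List.all_eq_true, List.mem_range] at h'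
  refine ⟨elt (fusWords.getD i []), fun j hj => ?_⟩
  have e := eq_of_triv (fun a ha => ?_) (h' j hj)
  · rw [elt_append, elt_append, elt_pw, elt_pw] at e; exact e
  · rcases List.mem_append.mp ha with ha | ha
    · exact lt_getD fus_lt i a ha
    · exact pw_lt _ a ha

theorem gen_wit (b : ℕ) (hb : b < cert.n) (k : ℕ) (hk1 : 1 ≤ k) (hk2 : k < cert.p) :
    gen b ^ k ∉ Subgroup.closure (gen '' {i | b < i ∧ i < cert.n}) := by
  have hk : k = 1 := by
    have : cert.p = 2 := rfl
    omega
  subst hk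
  rw [pow_one]
  have h := wit_ok
  simp only [witOK, List.all_eq_true, List.mem_range, Bool.and_eq_true, Bool.or_eq_true, Bool.not_eq_true',
    Nat.blt_eq, Nat.ble_eq, List.contains_iff_mem] at h
  obtain ⟨⟨hs, hlt⟩, hne, hstab⟩ := h b hb
  generalize (wit.getD b (0, [])).1 = s at hs hne
  generalize (wit.getD b (0, [])).2 = O at hs hlt hne hstab
  obtain ⟨T, -, -⟩ := facts
  have hg : ∀ i, ∀ x : Fin on122760.n,
      (Setup.hom T.gens T.letters T.perm T.rels (gen i) x : ℕ) = on122760.tw (pcWord.getD i []) x := fun i x => by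
    rw [gen, hom_elt T _ (k_eq ▸ lt_getD pc_lt i), Setup.ev_perm T.perm _ (k_eq ▸ lt_getD pc_lt i)]
  intro hmem
  rw [← Subgroup.mem_toSubmonoid, Subgroup.closure_toSubmonoid_of_finite] at hmem
  have key : ∀ y, y ∈ Submonoid.closure (gen '' {i | b < i ∧ i < cert.n}) → ∀ x : Fin on122760.n, (x : ℕ) ∈ O →
      (Setup.hom T.gens T.letters T.perm T.rels y x : ℕ) ∈ O := by
    intro y hy
    induction hy using Submonoid.closure_induction with
    | mem y hy =>
      obtain ⟨i, ⟨hbi, hi⟩, rfl⟩ := hy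
      intro x hx
      rw [hg]
      rcases hstab i hi with h | h
      · exact absurd h (by omega)
      · exact h x hx
    | one => intro x hx; simpa using hx
    | mul y z _ _ hy hz => intro x hx; rw [map_mul, Equiv.Perm.mul_apply]; exact hy _ (hz x hx)
  have := key _ hmem ⟨s, hlt s hs⟩ hs
  rw [hg] at this
  exact absurd (List.contains_iff_mem.mpr this) (by simpa using hne)

theorem not_stem_two {Γ : Type u} [Group Γ] [Finite Γ] {σ : Γ →* onSetup.G} (hσ : Cfsg.IsStemExtension σ) :
    Nat.card σ.ker ≠ 2 :=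
  cert.not_stem Nat.prime_two (PrimeTails.Cert.checked_of _ shape_ok piv_ok comb_ok vec_ok rels_ok) gen gen_rule
    gen_fus gen_wit (by rw [card_G]; decide +kernel) hσ

theorem sev_lt : (∀ a ∈ sevA, a < 8) ∧ (∀ a ∈ sevB, a < 8) ∧ (∀ a ∈ sevT, a < 8) ∧ (∀ a ∈ sevC, a < 8) := by
  decide +kernel

theorem not_stem_seven {Γ : Type u} [Group Γ] [Finite Γ] {σ : Γ →* onSetup.G} (hσ : Cfsg.IsStemExtension σ) :
    Nat.card σ.ker ≠ 7 := by
  obtain ⟨lA, lB, lT, lC⟩ := sev_lt
  have h := seven_ok
  simp only [sevenOK, Bool.and_eq_true, Bool.not_eq_true'] at h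
  obtain ⟨hA7, hB7, hTT, hTA, hTB, hCA, hCB, hC1⟩ := h
  have eA7 : elt sevA ^ 7 = 1 := by rw [← elt_pow]; exact elt_eq_one hA7
  have eB7 : elt sevB ^ 7 = 1 := by rw [← elt_pow]; exact elt_eq_one hB7
  have eTT : elt sevT * elt sevT = 1 := by rw [← elt_append]; exact elt_eq_one hTT
  have inv : ∀ w, triv (sevT ++ (w ++ (sevT ++ w))) = true → elt sevT * elt w * (elt sevT)⁻¹ = (elt w)⁻¹ := by
    intro w hw
    have e := elt_eq_one hw
    simp only [elt_append] at e
    rw [inv_eq_of_mul_eq_one_left eTT]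
    refine (inv_eq_of_mul_eq_one_right ?_).symm
    simpa only [mul_assoc] using e
  have com : ∀ w, (∀ a ∈ w, a < 8) → triv (sevC ++ (w ++ (wi sevC ++ wi w))) = true →
      Commute (elt sevC) (elt w) := by
    intro w hw he
    have e := elt_eq_one he
    simp only [elt_append, elt_wi lC, elt_wi hw] at e
    calc elt sevC * elt w = elt sevC * elt w * ((elt w)⁻¹ * (elt sevC)⁻¹ * elt w * elt sevC) := by
          rw [e, mul_one]
      _ = elt w * elt sevC := by group
  set a := (elt sevB)⁻¹ with ha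
  set b := (elt sevA)⁻¹ with hb
  have hab : ⁅a, b⁆ = elt sevC := by
    rw [sevC, commutatorElement_def, ha, hb]
    simp only [elt_append, elt_wi lA, elt_wi lB]
    group
  have hca : Commute ⁅a, b⁆ a := by rw [hab]; exact (com _ lB hCB).inv_right
  have hcb : Commute ⁅a, b⁆ b := by rw [hab]; exact (com _ lA hCA).inv_right
  have hne : ⁅a, b⁆ ≠ 1 := by
    rw [hab]
    intro e
    have e' := tw_congr (v := []) lC (by simp) (s := 1) e (by decide +kernel)
    rw [show on122760.tw sevC 1 = 1 from e', Nat.beq_refl] at hC1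
    exact absurd hC1 (by decide)
  have : Fact (Nat.Prime 7) := ⟨by norm_num⟩
  set P := Subgroup.closure ({a, b} : Set onSetup.G) with hP
  have haP : a ∈ P := Subgroup.subset_closure (by simp)
  have hbP : b ∈ P := Subgroup.subset_closure (by simp)
  -- the subgroup is a 7-group
  have hz : ∀ x : onSetup.G, x ^ 7 = 1 → IsPGroup 7 (Subgroup.zpowers x) := fun x hx => by
    rw [IsPGroup.iff_card]
    rcases (Nat.dvd_prime (by norm_num : Nat.Prime 7)).mp (orderOf_dvd_of_pow_eq_one hx) with e | e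
    · exact ⟨0, by rw [Nat.card_zpowers, e, pow_zero]⟩
    · exact ⟨1, by rw [Nat.card_zpowers, e, pow_one]⟩
  have ha7 : a ^ 7 = 1 := by rw [ha, inv_pow, eB7, inv_one]
  have hb7 : b ^ 7 = 1 := by rw [hb, inv_pow, eA7, inv_one]
  have hc7 : ⁅a, b⁆ ^ 7 = 1 := by
    have hstep : ∀ n : ℕ, a ^ n * b * (a ^ n)⁻¹ = ⁅a, b⁆ ^ n * b := by
      intro n
      induction n with
      | zero => group
      | succ n ih =>
        calc a ^ (n + 1) * b * (a ^ (n + 1))⁻¹ = a * (a ^ n * b * (a ^ n)⁻¹) * a⁻¹ := by rw [pow_succ']; group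
          _ = (a * ⁅a, b⁆ ^ n) * (b * a⁻¹) := by rw [ih]; group
          _ = (⁅a, b⁆ ^ n * a) * (b * a⁻¹) := by rw [(hca.pow_left n).eq]
          _ = ⁅a, b⁆ ^ (n + 1) * b := by rw [pow_succ, commutatorElement_def]; group
    have := hstep 7
    rw [ha7, one_mul, inv_one, mul_one] at this
    exact right_eq_mul.mp this
  set A := Subgroup.zpowers ⁅a, b⁆ ⊔ Subgroup.zpowers b with hA
  have hA7 : IsPGroup 7 A := by
    refine IsPGroup.to_sup_of_normal_right' (hz _ hc7) (hz _ hb7) ?_
    rw [Subgroup.zpowers_le]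
    rw [Subgroup.mem_normalizer_iff_map_conj_eq, MonoidHom.map_zpowers]
    exact congrArg Subgroup.zpowers (show ⁅a, b⁆ * b * ⁅a, b⁆⁻¹ = b by rw [hcb.eq, mul_inv_cancel_right])
  have hnorm : a ∈ Subgroup.normalizer (A : Set onSetup.G) := by
    rw [Subgroup.mem_normalizer_iff_map_conj_eq, hA, Subgroup.map_sup, MonoidHom.map_zpowers, MonoidHom.map_zpowers]
    show Subgroup.zpowers (a * ⁅a, b⁆ * a⁻¹) ⊔ Subgroup.zpowers (a * b * a⁻¹) = _
    rw [← hca.eq, mul_inv_cancel_right, show a * b * a⁻¹ = ⁅a, b⁆ * b by rw [commutatorElement_def]; group]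
    refine le_antisymm (sup_le le_sup_left (Subgroup.zpowers_le.mpr ?_))
      (sup_le le_sup_left (Subgroup.zpowers_le.mpr ?_))
    · exact mul_mem (Subgroup.mem_sup_left (Subgroup.mem_zpowers _)) (Subgroup.mem_sup_right (Subgroup.mem_zpowers _))
    · have := mul_mem (inv_mem (Subgroup.mem_sup_left (T := Subgroup.zpowers (⁅a, b⁆ * b))
        (Subgroup.mem_zpowers ⁅a, b⁆))) (Subgroup.mem_sup_right (Subgroup.mem_zpowers (⁅a, b⁆ * b)))
      rwa [inv_mul_cancel_left] at this
  have hP7 : IsPGroup 7 P := by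
    refine (IsPGroup.to_sup_of_normal_right' (hz a ha7) hA7 (Subgroup.zpowers_le.mpr hnorm)).to_le ?_
    rw [hP, Subgroup.closure_le]
    rintro _ (rfl | rfl)
    · exact Subgroup.mem_sup_left (Subgroup.mem_zpowers _)
    · exact Subgroup.mem_sup_right (Subgroup.mem_sup_right (Subgroup.mem_zpowers _))
  -- at least 50 elements
  have hmem : ∀ w ∈ sevWords, elt w ∈ P := by
    intro w hw
    have hA' : elt sevA ∈ P := by rw [← inv_inv (elt sevA)]; exact inv_mem hbP
    have hB' : elt sevB ∈ P := by rw [← inv_inv (elt sevB)]; exact inv_mem haP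
    simp only [sevWords, List.mem_append, List.mem_flatMap, List.mem_map, List.mem_singleton] at hw
    rcases hw with ⟨i, -, j, -, rfl⟩ | rfl
    · rw [elt_append, elt_pow, elt_pow]; exact mul_mem (pow_mem hB' _) (pow_mem hA' _)
    · rw [← hab, commutatorElement_def]; exact mul_mem (mul_mem (mul_mem haP hbP) (inv_mem haP)) (inv_mem hbP)
  have h50 : 50 ≤ Nat.card P := by
    have hnd : (sevWords.map fun w => on122760.tw w 1).Nodup := seven_images.symm ▸ seven_nodup
    have hlen : sevWords.length = 50 := by decide +kernel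
    have hinj : Function.Injective fun i : Fin sevWords.length => (⟨elt sevWords[i.1], hmem _ (List.getElem_mem i.2)⟩ : P) := by
      intro i j e
      have hl := seven_lt
      simp only [List.all_eq_true, Nat.blt_eq] at hl
      have e' := tw_congr (hl _ (List.getElem_mem i.2)) (hl _ (List.getElem_mem j.2)) (congrArg Subtype.val e)
        (s := 1) (by decide +kernel)
      exact Fin.ext ((hnd.getElem_inj_iff (i := i.1) (j := j.1) (hi := by simp) (hj := by simp)).mp
        (by simpa using e'))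
    have := Nat.card_le_card_of_injective _ hinj
    rwa [Nat.card_fin, hlen] at this
  refine Multiplier.not_stem_of_inverting hσ (by norm_num) (by norm_num) (g := elt sevT) ha7 hca hcb hne ?_ ?_ ?_
  · rw [ha, inv_inv, show elt sevT * (elt sevB)⁻¹ * (elt sevT)⁻¹ = (elt sevT * elt sevB * (elt sevT)⁻¹)⁻¹ by group,
      inv _ hTB, inv_inv]
  · rw [hb, inv_inv, show elt sevT * (elt sevA)⁻¹ * (elt sevT)⁻¹ = (elt sevT * elt sevA * (elt sevT)⁻¹)⁻¹ by group,
      inv _ hTA, inv_inv]
  · intro hd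
    obtain ⟨k, hk⟩ := hP7.exists_card_eq
    have hk3 : 3 ≤ k := by
      by_contra hc
      have := Nat.pow_le_pow_right (show 0 < 7 by norm_num) (show k ≤ 2 by omega)
      omega
    have hmul := P.card_mul_index
    rw [card_G, hk] at hmul
    have : (7 : ℕ) ^ 3 * 7 ∣ 460815505920 := hmul ▸ mul_dvd_mul (pow_dvd_pow 7 hk3) hd
    norm_num at this

theorem not_stem {Γ : Type u} [Group Γ] [Finite Γ] {σ : Γ →* onSetup.G} (hσ : Cfsg.IsStemExtension σ) {p : ℕ}
    (hp : p.Prime) (h3 : p ≠ 3) : Nat.card σ.ker ≠ p := by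
  by_cases h2 : p = 2
  · subst h2; exact not_stem_two hσ
  by_cases h7 : p = 7
  · subst h7; exact not_stem_seven hσ
  refine Multiplier.not_stem_of_not_sq_dvd hσ hp ?_
  intro hd
  rw [card_G, show (460815505920 : ℕ) = 2 ^ 9 * (3 ^ 4 * (7 ^ 3 * (5 * (11 * (19 * 31))))) by norm_num] at hd
  have hco : ∀ q k, q.Prime → p ≠ q → Nat.Coprime (p ^ 2) (q ^ k) := fun q k hq hne =>
    ((Nat.coprime_primes hp hq).2 hne).pow 2 k
  have h6 := (hco 7 3 (by norm_num) h7).dvd_of_dvd_mul_left
    ((hco 3 4 Nat.prime_three h3).dvd_of_dvd_mul_left ((hco 2 9 Nat.prime_two h2).dvd_of_dvd_mul_left hd))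
  have h7' : p ∣ 5 * (11 * (19 * 31)) := (dvd_pow_self p two_ne_zero).trans h6
  rcases hp.dvd_mul.1 h7' with h | h
  · rw [(Nat.prime_dvd_prime_iff_eq hp (by norm_num)).1 h] at h6; norm_num at h6
  rcases hp.dvd_mul.1 h with h | h
  · rw [(Nat.prime_dvd_prime_iff_eq hp (by norm_num)).1 h] at h6; norm_num at h6
  rcases hp.dvd_mul.1 h with h | h <;>
    (rw [(Nat.prime_dvd_prime_iff_eq hp (by norm_num)).1 h] at h6; norm_num at h6)

theorem isPGroup_ker {Γ : Type u} [Group Γ] [Finite Γ] {σ : Γ →* onSetup.G} (hσ : Cfsg.IsStemExtension σ) :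
    IsPGroup 3 σ.ker := by
  have hcomm : ∀ x y : σ.ker, x * y = y * x := fun x y =>
    Subtype.ext (Subgroup.mem_center_iff.1 (hσ.2.1 y.2) x.1)
  letI : CommGroup σ.ker := { (inferInstance : Group σ.ker) with mul_comm := hcomm }
  refine IsPGroup.of_card (n := (Nat.card σ.ker).factorization 3) ?_
  refine Nat.eq_pow_of_factorization_eq_single Nat.card_pos.ne' ?_ |>.trans rfl
  ext p
  rcases eq_or_ne p 3 with rfl | hp3
  · simp
  rw [Finsupp.single_eq_of_ne hp3]
  by_contra hne
  have hp : p.Prime := Nat.prime_of_mem_primeFactors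
    (by rw [← Nat.support_factorization]; exact Finsupp.mem_support_iff.mpr hne)
  have hpd : p ∣ Nat.card σ.ker := Nat.dvd_of_factorization_pos hne
  haveI := Fact.mk hp
  -- a coatom above the `p`-th powers
  let R : Subgroup σ.ker := (powMonoidHom p).range
  have hR : R ≠ ⊤ := by
    intro htop
    have hinj : Function.Injective (powMonoidHom p : σ.ker →* σ.ker) :=
      Finite.injective_iff_surjective.mpr (MonoidHom.range_eq_top.mp htop)
    obtain ⟨x, hx⟩ := exists_prime_orderOf_dvd_card' (G := σ.ker) p hpd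
    have : x = 1 := hinj (by simp [← hx, pow_orderOf_eq_one])
    rw [this, orderOf_one] at hx
    exact hp.ne_one hx.symm
  obtain ⟨M, hM, hRM⟩ := (eq_top_or_exists_le_coatom R).resolve_left hR
  let N : Subgroup Γ := M.map σ.ker.subtype
  have hNle : N ≤ σ.ker := Subgroup.map_subtype_le M
  haveI hNn : N.Normal := ⟨fun n hn g => by
    rw [Subgroup.mem_center_iff.1 (hσ.2.1 (hNle hn)) g, mul_inv_cancel_right]; exact hn⟩
  let τ : Γ ⧸ N →* onSetup.G := QuotientGroup.lift N σ hNle
  have hker : τ.ker = σ.ker.map (QuotientGroup.mk' N) := QuotientGroup.ker_lift N σ hNle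
  have hstem : Cfsg.IsStemExtension τ := by
    refine ⟨fun g => ?_, ?_, ?_⟩
    · obtain ⟨x, hx⟩ := hσ.1 g
      exact ⟨QuotientGroup.mk' N x, hx⟩
    · rw [hker]
      rintro _ ⟨x, hx, rfl⟩
      rw [Subgroup.mem_center_iff]
      intro g
      obtain ⟨y, rfl⟩ := QuotientGroup.mk'_surjective N g
      rw [← map_mul, ← map_mul, Subgroup.mem_center_iff.1 (hσ.2.1 hx) y]
    · rw [hker]
      refine (Subgroup.map_mono hσ.2.2).trans ?_
      rw [commutator_def, Subgroup.map_commutator]
      exact Subgroup.commutator_mono le_top le_top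
  have hcard : Nat.card τ.ker = M.index := by
    let f : σ.ker →* Γ ⧸ N := (QuotientGroup.mk' N).comp σ.ker.subtype
    have hfr : f.range = τ.ker := by rw [hker, MonoidHom.range_comp, Subgroup.range_subtype]
    have hfk : f.ker = M := by
      ext x
      rw [MonoidHom.mem_ker, MonoidHom.comp_apply, QuotientGroup.mk'_apply, QuotientGroup.eq_one_iff]
      exact ⟨fun ⟨m, hm, he⟩ => Subtype.ext he ▸ hm, fun hx => ⟨x, hx, rfl⟩⟩
    rw [← hfr, ← Subgroup.index_ker, hfk]
  refine not_stem hstem hp hp3 (hcard.trans ?_)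
  have hpg : IsPGroup p (σ.ker ⧸ M) := fun q => by
    obtain ⟨x, rfl⟩ := QuotientGroup.mk'_surjective M q
    refine ⟨1, ?_⟩
    rw [pow_one, ← map_pow]
    exact (QuotientGroup.eq_one_iff _).mpr (hRM ⟨x, rfl⟩)
  have hne1 : M.index ≠ 1 := fun h1 => hM.1 (Subgroup.index_eq_one.1 h1)
  obtain ⟨k, hk⟩ := hpg.exists_card_eq
  have hk1 : 1 ≤ k := by
    by_contra hc
    rw [show k = 0 by omega, pow_zero] at hk
    exact hne1 hk
  obtain ⟨q, hq⟩ := exists_prime_orderOf_dvd_card' (G := σ.ker ⧸ M) p (hk ▸ dvd_pow_self p (by omega))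
  obtain ⟨x, rfl⟩ := QuotientGroup.mk'_surjective M q
  have hlt : M < (Subgroup.zpowers (QuotientGroup.mk' M x)).comap (QuotientGroup.mk' M) := by
    refine lt_of_le_of_ne (fun m hm => ?_) fun he => ?_
    · rw [Subgroup.mem_comap, show QuotientGroup.mk' M m = 1 from (QuotientGroup.eq_one_iff m).2 hm]
      exact one_mem _
    · have hx : x ∈ M := by rw [he, Subgroup.mem_comap]; exact Subgroup.mem_zpowers _
      rw [QuotientGroup.mk'_apply, (QuotientGroup.eq_one_iff x).2 hx, orderOf_one] at hq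
      exact hp.ne_one hq.symm
  have htop : Subgroup.zpowers (QuotientGroup.mk' M x) = ⊤ := by
    rw [← Subgroup.map_comap_eq_self_of_surjective (QuotientGroup.mk'_surjective M)
      (Subgroup.zpowers (QuotientGroup.mk' M x)), hM.2 _ hlt,
      Subgroup.map_top_of_surjective _ (QuotientGroup.mk'_surjective M)]
  show Nat.card (σ.ker ⧸ M) = p
  rw [← Subgroup.card_top, ← htop, Nat.card_zpowers, hq]

theorem ker_le_three {Γ : Type u} [Group Γ] [Finite Γ] (σ : Γ →* Cfsg.Spor.ON) (hσ : Cfsg.IsStemExtension σ) :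
    Nat.card σ.ker ≤ 3 :=
  CpQuotient.ON.ker_le_three' σ hσ.1 hσ.2.1 hσ.2.2 (isPGroup_ker (σ := σ) hσ)

end Cfsg.Agent.MultiplierON
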