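/-
A stem extension of the O'Nan group with kernel of order three, from its 45-dimensional projective
representation over the field with seven elements.

* `exists_stem`
-/
import Cfsg.Agent.Lib.ONCover.Main
import Cfsg.Prelude.Def_KGroupFacts

set_option autoImplicit false
set_option maxRecDepth 10000

namespace Cfsg.Agent.MultiplierON

open Cfsg.Agent.ONCover Cfsg.Spor Matrix

local instance : Fact (Nat.Prime 7) := ⟨by norm_num⟩

theorem F_invol (x : ON.Gen) (hx : 2 ≤ idx x) : F (FreeGroup.of x) * F (FreeGroup.of x) = 1 := by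
  have hl : idx x < 8 := by cases x <;> decide
  apply Units.ext
  rw [Units.val_mul, Units.val_one, F_gen x hl]
  have h := (mat_linv hl).1
  rwa [show linv (idx x) = idx x from by cases x <;> first | rfl | exact absurd hx (by decide)] at h

theorem F_bcdg : ((F ((ON.b * ON.c * ON.d * ON.g) ^ 5) : GL (Fin 45) (ZMod 7)) : Matrix (Fin 45) (Fin 45) (ZMod 7)) =
    (2 : ZMod 7) • 1 := by
  have h := relB_spec (List.all_eq_true.mp extra_check ([3, 4, 5, 0], 5, 2) (by simp [extraWords]))
  rw [map_pow, Units.val_pow_eq_pow_val, map_mul, map_mul, map_mul, Units.val_mul, Units.val_mul, Units.val_mul,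
    F_gen _ (by decide), F_gen _ (by decide), F_gen _ (by decide), F_gen _ (by decide)]
  simp only [List.map_cons, List.map_nil, List.prod_cons, List.prod_nil, mul_one, Nat.cast_ofNat,
    ← mul_assoc] at h
  exact h

/-- In an abelian image the scalar matrix of order three becomes trivial. -/
theorem hom_g4 {A : Type} [CommGroup A] (χ : F.range →* A) : χ (F.rangeRestrict (ON.g ^ 4)) = 1 := by
  let u : ON.Gen → A := fun x => χ (F.rangeRestrict (FreeGroup.of x))
  have hu : ∀ x, 2 ≤ idx x → u x * u x = 1 := fun x hx => by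
    have h : F.rangeRestrict (FreeGroup.of x) * F.rangeRestrict (FreeGroup.of x) = 1 := Subtype.ext (F_invol x hx)
    simp only [u]
    rw [← map_mul, h, map_one]
  have heq : F.rangeRestrict (ON.g ^ 4) = F.rangeRestrict ((ON.b * ON.c * ON.d * ON.g) ^ 5) :=
    Subtype.ext (Units.ext (F_g4.trans F_bcdg.symm))
  have h := congrArg χ heq
  simp only [map_pow, map_mul] at h ⊢
  change u .g ^ 4 = (u .b * u .c * u .d * u .g) ^ 5 at h
  change u .g ^ 4 = 1
  rw [mul_pow] at h
  have hg : u .g = ((u .b * u .c * u .d) ^ 5)⁻¹ := by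
    rw [pow_succ' (u .g) 4, ← mul_assoc] at h
    exact eq_inv_of_mul_eq_one_right (right_eq_mul.mp h)
  have hs : (u .b * u .c * u .d) * (u .b * u .c * u .d) = 1 := by
    rw [mul_mul_mul_comm, mul_mul_mul_comm (u .b), hu _ (by decide), hu _ (by decide), hu _ (by decide), one_mul,
      one_mul]
  rw [hg, inv_pow, ← pow_mul, show 5 * 4 = 2 * 10 from rfl, pow_mul, sq, hs, one_pow, inv_one]

theorem exists_stem : ∃ (Γ : Type) (_ : Group Γ) (_ : Finite Γ) (σ : Γ →* Cfsg.Spor.ON),
    Cfsg.IsStemExtension σ ∧ Nat.card σ.ker = 3 := by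
  have hON : Cfsg.IsON GON := Cfsg.Agent.S1699.result
  obtain ⟨θ, hθ⟩ := comp_mk ((QuotientGroup.mk' (Subgroup.center (GL (Fin 45) (ZMod 7)))).comp F) fun x hx =>
    (QuotientGroup.eq_one_iff _).mpr (Sc_central (lifted x hx))
  have hθinj : Function.Injective θ := by
    rw [← MonoidHom.ker_eq_bot_iff]
    have := hON.1
    refine (MonoidHom.normal_ker θ).eq_bot_or_eq_top.resolve_right fun h => F_a ?_
    exact (QuotientGroup.eq_one_iff _).mp
      ((hθ ON.a).symm.trans (MonoidHom.mem_ker.mp (h ▸ Subgroup.mem_top _)))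
  let q : F.range →* GL (Fin 45) (ZMod 7) ⧸ Subgroup.center (GL (Fin 45) (ZMod 7)) :=
    (QuotientGroup.mk' _).comp F.range.subtype
  have hq : ∀ z, q z ∈ θ.range := by
    rintro ⟨_, r, rfl⟩
    exact ⟨_, hθ r⟩
  let σ : F.range →* GON := (MonoidHom.ofInjective hθinj).symm.toMonoidHom.comp (q.codRestrict θ.range hq)
  have hσ : ∀ r, σ (F.rangeRestrict r) = PresentedGroup.mk _ r := fun r => by
    show (MonoidHom.ofInjective hθinj).symm (q.codRestrict θ.range hq (F.rangeRestrict r)) = _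
    rw [MulEquiv.symm_apply_eq]
    exact Subtype.ext (hθ r).symm
  have hker : ∀ z, z ∈ σ.ker ↔ (z : GL (Fin 45) (ZMod 7)) ∈ Subgroup.center (GL (Fin 45) (ZMod 7)) := fun z => by
    rw [MonoidHom.mem_ker]
    show (MonoidHom.ofInjective hθinj).symm (q.codRestrict θ.range hq z) = 1 ↔ _
    rw [MulEquiv.map_eq_one_iff, Subtype.ext_iff]
    exact QuotientGroup.eq_one_iff _
  have key : ∀ z ∈ σ.ker, ∃ s : ZMod 7, s ^ 3 = 1 ∧
      ((z : GL (Fin 45) (ZMod 7)) : Matrix (Fin 45) (Fin 45) (ZMod 7)) = s • 1 := by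
    rintro ⟨_, r, rfl⟩ hz
    obtain ⟨s, hs⟩ := exists_scalar_of_center ((hker _).mp hz)
    refine ⟨s, ?_, hs⟩
    have hd := det_eq_one hON (Fintype.card_fin 45) F (fun x hx => lifted x hx) r
    rw [show ((F r : GL (Fin 45) (ZMod 7)) : Matrix (Fin 45) (Fin 45) (ZMod 7)) = (s : ZMod 7) • 1 from hs,
      Matrix.det_smul, Matrix.det_one, mul_one, Fintype.card_fin] at hd
    calc ((s : ZMod 7)) ^ 3 = ((s : ZMod 7) ^ 6) ^ 7 * (s : ZMod 7) ^ 3 := by
          rw [show (6 : ℕ) = 7 - 1 from rfl, ZMod.pow_card_sub_one_eq_one s.ne_zero, one_pow, one_mul]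
      _ = (s : ZMod 7) ^ 45 := by rw [← pow_mul, ← pow_add]
      _ = 1 := hd
  let w : F.range := F.rangeRestrict (ON.g ^ 4)
  have hwker : w ∈ σ.ker := (hker _).mpr (mem_center_of_scalar F_g4)
  have hwcomm : w ∈ commutator F.range := by
    have h := hom_g4 (Abelianization.of : F.range →* Abelianization F.range)
    rw [← MonoidHom.mem_ker, Abelianization.ker_of] at h
    exact h
  have hz : σ.ker = Subgroup.zpowers w := by
    refine le_antisymm (fun z hz => ?_) (by simpa [Subgroup.zpowers_le] using hwker)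
    obtain ⟨s, hs3, hs⟩ := key z hz
    have : ∀ s : ZMod 7, s ^ 3 = 1 → ∃ k : Fin 3, s = 2 ^ (k : ℕ) := by decide
    obtain ⟨k, rfl⟩ := this s hs3
    refine ⟨((k : ℕ) : ℤ), ?_⟩
    refine Subtype.ext (Units.ext ?_)
    show (((w ^ ((k : ℕ) : ℤ) : F.range) : GL (Fin 45) (ZMod 7)) : Matrix (Fin 45) (Fin 45) (ZMod 7)) = _
    rw [zpow_natCast, SubmonoidClass.coe_pow, Units.val_pow_eq_pow_val, hs]
    rw [show (((w : F.range) : GL (Fin 45) (ZMod 7)) : Matrix (Fin 45) (Fin 45) (ZMod 7)) = (2 : ZMod 7) • 1 from F_g4,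
      smul_pow, one_pow]
  refine ⟨F.range, inferInstance, inferInstance, σ, ⟨?_, ?_, ?_⟩, ?_⟩
  · intro x
    obtain ⟨r, rfl⟩ := PresentedGroup.mk_surjective _ x
    exact ⟨_, hσ r⟩
  · intro z hz'
    rw [Subgroup.mem_center_iff]
    exact fun y => Subtype.ext (Subgroup.mem_center_iff.mp ((hker z).mp hz') y.1)
  · rw [hz, Subgroup.zpowers_le]
    exact hwcomm
  · rw [hz, Nat.card_zpowers]
    have : Fact (Nat.Prime 3) := ⟨Nat.prime_three⟩
    refine orderOf_eq_prime ?_ ?_
    · refine Subtype.ext (Units.ext ?_)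
      rw [SubmonoidClass.coe_pow, Units.val_pow_eq_pow_val]
      rw [show (((w : F.range) : GL (Fin 45) (ZMod 7)) : Matrix (Fin 45) (Fin 45) (ZMod 7)) = (2 : ZMod 7) • 1 from F_g4,
        smul_pow, one_pow, show (2 : ZMod 7) ^ 3 = 1 from by decide, one_smul]
      rfl
    · intro h
      have h' := congrArg (fun z : F.range => ((z : GL (Fin 45) (ZMod 7)) : Matrix (Fin 45) (Fin 45) (ZMod 7)) 0 0) h
      simp only [w] at h'
      rw [show (((F.rangeRestrict (ON.g ^ 4) : F.range) : GL (Fin 45) (ZMod 7)) : Matrix (Fin 45) (Fin 45) (ZMod 7)) =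
        (2 : ZMod 7) • 1 from F_g4] at h'
      simp at h'
      exact absurd h' (by decide)

end Cfsg.Agent.MultiplierON
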